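import Groth.Agent.Lib.CI2.FibAss
import Mathlib.RingTheory.IsTensorProduct
import Mathlib.Algebra.Module.Projective
import Mathlib.LinearAlgebra.Matrix.NonsingularInverse
import Mathlib.LinearAlgebra.TensorProduct.Basis
import Mathlib.LinearAlgebra.Matrix.Determinant.Basic
import Mathlib.RingTheory.Ideal.AssociatedPrime.Basic

/-!
# Projective modules have no impurities
-/

set_option autoImplicit false
set_option backward.isDefEq.respectTransparency false
set_option linter.style.haveILetI false
set_option maxHeartbeats 800000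

universe u

open TensorProduct

namespace Groth.Agent.ProjPure5

/-- A vector killed by `s - π`, with `π` an endomorphism divisible by `t ∌ s`, is zero. -/
theorem eq_zero_of_divisible {A : Type u} [CommRing A] (t t' : Ideal A) [t.IsPrime] [t'.IsPrime]
    (hle : t' ≤ t) {ι : Type u} (T : (ι →₀ A) →ₗ[A] (ι →₀ A))
    (hT : ∀ x, ∀ k, T x k ∈ t) (s : A) (hs : s ∉ t) (a : ι →₀ t'.ResidueField)
    (h : ∀ k, algebraMap A t'.ResidueField s * a k =
      a.sum fun j c => algebraMap A t'.ResidueField (T (Finsupp.single j 1) k) * c) :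
    a = 0 := by
  classical
  let J := a.support
  let M₀ : Matrix J J A := Matrix.of fun k j => (if k = j then s else 0) - T (Finsupp.single (j : ι) 1) k
  have hdet : M₀.det ∉ t := by
    intro hmem
    have h0 : (Ideal.Quotient.mk t) M₀.det = 0 := Ideal.Quotient.eq_zero_iff_mem.2 hmem
    rw [RingHom.map_det] at h0
    have hM : (Ideal.Quotient.mk t).mapMatrix M₀ = Matrix.diagonal fun _ => Ideal.Quotient.mk t s := by
      ext k j
      have : Ideal.Quotient.mk t (T (Finsupp.single (j : ι) 1) k) = 0 :=
        Ideal.Quotient.eq_zero_iff_mem.2 (hT _ _)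
      simp only [M₀, RingHom.mapMatrix_apply, Matrix.map_apply, Matrix.of_apply, map_sub, this, sub_zero,
        Matrix.diagonal_apply]
      split_ifs <;> simp
    rw [hM, Matrix.det_diagonal, Finset.prod_const] at h0
    exact hs (Ideal.Quotient.eq_zero_iff_mem.1 (eq_zero_of_pow_eq_zero h0))
  let M := (algebraMap A t'.ResidueField).mapMatrix M₀
  have hM0 : M.det ≠ 0 := by
    rw [show M.det = algebraMap A t'.ResidueField M₀.det from ((algebraMap A t'.ResidueField).map_det M₀).symm,
      Ne, Ideal.algebraMap_residueField_eq_zero]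
    exact fun h => hdet (hle h)
  have hv : M.mulVec (fun j : J => a j) = 0 := by
    funext k
    have hk := h (k : ι)
    rw [Finsupp.sum, ← Finset.sum_coe_sort] at hk
    simp only [M, M₀, Matrix.mulVec, dotProduct, RingHom.mapMatrix_apply, Matrix.map_apply, Matrix.of_apply,
      map_sub, sub_mul, Finset.sum_sub_distrib, Pi.zero_apply]
    rw [← hk]
    simp [apply_ite (algebraMap A t'.ResidueField), ite_mul, J]
  have hz := Matrix.eq_zero_of_mulVec_eq_zero hM0 hv
  ext j
  by_contra hj
  exact hj (congrFun hz ⟨j, Finsupp.mem_support_iff.2 hj⟩)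

/-- No impurity for a projective module. -/
theorem not_isImpurity {A B : Type u} [CommRing A] [CommRing B] [Algebra A B] (N : Type u) [AddCommGroup N]
    [Module B N] [Module A N] [IsScalarTower A B N] [Module.Projective A N] (p : Ideal A) [p.IsPrime]
    (A' B' N' : Type u) [CommRing A'] [CommRing B'] [Algebra A A'] [Algebra B B']
    [Algebra A' B'] [Algebra A B'] [IsScalarTower A B B'] [IsScalarTower A A' B']
    [AddCommGroup N'] [Module B' N'] [Module B N'] [IsScalarTower B B' N'] [Module A' N']
    [IsScalarTower A' B' N'] (f : N →ₗ[B] N') (t' t : Ideal A') [t'.IsPrime] [t.IsPrime]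
    (P : Ideal B') [P.IsPrime] : ¬ FlatCA.IsImpurity A B N p A' B' N' f t' t P := by
  classical
  rintro ⟨hpush, hbc, hle, -, hPt', hass, hno⟩
  haveI := hpush.symm
  -- `N'` is projective over `A'`
  haveI : Module.Projective A' N' :=
    Module.Projective.of_equiv
      ((Algebra.IsPushout.cancelBaseChange A A' B B' N).symm.trans (hbc.equiv.restrictScalars A'))
  -- an element of `P + t B'` coming from outside `t`
  obtain ⟨s, hs, hsmem⟩ : ∃ s : A', s ∉ t ∧ algebraMap A' B' s ∈ P ⊔ t.map (algebraMap A' B') := by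
    by_contra! hcon
    have hdisj : Disjoint ((Algebra.algebraMapSubmonoid B' t.primeCompl : Submonoid B') : Set B')
        ((P ⊔ t.map (algebraMap A' B') : Ideal B') : Set B') := by
      rw [Set.disjoint_left]
      rintro _ ⟨s, hs, rfl⟩
      exact hcon s hs
    obtain ⟨P', hP', hle', hdisj'⟩ := Ideal.exists_le_prime_disjoint _ _ hdisj.symm
    haveI := hP'
    refine hno P' (le_sup_left.trans hle') ⟨le_antisymm (fun s hs => ?_) fun s hs => ?_⟩
    · exact hle' ((le_sup_right : t.map (algebraMap A' B') ≤ _) (Ideal.mem_map_of_mem _ hs))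
    · by_contra h
      exact Set.disjoint_right.1 hdisj' ⟨s, h, rfl⟩ hs
  obtain ⟨b, hb, π, hπ, hbπ⟩ := Submodule.mem_sup.1 hsmem
  -- the associated point
  obtain ⟨hprime, x, hx⟩ := hass
  have hbx : CI2.FibAss.inc t' b ∈ FlatCA.fiberIdeal t' P := Ideal.mem_map_of_mem _ hb
  rw [hx] at hbx
  obtain ⟨m, hm⟩ := hbx
  rw [Submodule.mem_colon_singleton, Submodule.mem_bot] at hm
  -- `b ^ m = s ^ m - π'`
  obtain ⟨π', hπ', hbm⟩ : ∃ π' ∈ t.map (algebraMap A' B'), b ^ m = algebraMap A' B' (s ^ m) - π' := by
    refine ⟨algebraMap A' B' (s ^ m) - b ^ m, ?_, by ring⟩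
    have hdvd := sub_dvd_pow_sub_pow (algebraMap A' B' s) b m
    rw [map_pow]
    obtain ⟨c, hc⟩ := hdvd
    rw [hc, show algebraMap A' B' s - b = π by rw [← hbπ]; ring]
    exact Ideal.mul_mem_right _ _ hπ
  -- replace `x` by the image of an element of `N'`
  have hx0 : x ≠ 0 := by
    rintro rfl
    have h1 : (1 : t'.Fiber B') ∈ FlatCA.fiberIdeal t' P := by
      rw [hx]
      exact ⟨1, by simp⟩
    exact hprime.ne_top ((Ideal.eq_top_iff_one _).2 h1)
  obtain ⟨c, hc, n, hn⟩ := CI2.FibAss.surj t' N' x
  have hn0 : FlatCA.toFiberMod t' B' N' n ≠ 0 := fun h => hx0 <| by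
    rw [← hn] at h
    exact (CI2.FibAss.smul_eq_zero t' N' hc x).1 h
  have hkill : FlatCA.toFiberMod t' B' N' (b ^ m • n) = 0 := by
    rw [map_smul, ← hn, smul_comm, CI2.FibAss.smul_eq_inc t' N' (b ^ m), map_pow, hm, smul_zero]
  rw [hbm, sub_smul, map_sub, sub_eq_zero, algebraMap_smul] at hkill
  -- coordinates in a free module containing `N'`
  obtain ⟨ι', hι'⟩ := Module.projective_def'.1 ‹Module.Projective A' N'›
  let pr : (N' →₀ A') →ₗ[A'] N' := Finsupp.linearCombination A' id
  have hpr : ∀ z, pr (ι' z) = z := fun z => LinearMap.congr_fun hι' z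
  let T : (N' →₀ A') →ₗ[A'] (N' →₀ A') := (ι'.comp ((LinearMap.lsmul B' N' π').restrictScalars A')).comp pr
  have hT : ∀ z k, T z k ∈ t := by
    have key : ∀ r ∈ t.map (algebraMap A' B'), ∀ (w : N') (k : N'), ι' (r • w) k ∈ t := by
      intro r hr
      induction hr using Submodule.span_induction with
      | mem r hr =>
        obtain ⟨r, hr, rfl⟩ := hr
        intro w k
        rw [algebraMap_smul, map_smul, Finsupp.smul_apply, smul_eq_mul]
        exact Ideal.mul_mem_right _ _ hr
      | zero => intro w k; simp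
      | add r r' _ _ h h' =>
        intro w k
        rw [add_smul, map_add, Finsupp.add_apply]
        exact add_mem (h w k) (h' w k)
      | smul r r' _ h =>
        intro w k
        rw [smul_eq_mul, mul_comm, mul_smul]
        exact h _ _
    exact fun z k => key π' hπ' (pr z) k
  let a : N' →₀ t'.ResidueField := (ι' n).mapRange (algebraMap A' t'.ResidueField) (map_zero _)
  have ha : a = 0 := by
    refine eq_zero_of_divisible t t' hle T hT (s ^ m) (fun h => hs (Ideal.IsPrime.mem_of_pow_mem ‹_› _ h)) a
      fun k => ?_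
    have hz : FlatCA.toFiberMod t' B' N' (s ^ m • n - π' • n) = 0 := by rw [map_sub, hkill, sub_self]
    obtain ⟨d, hd, hdmem⟩ := CI2.FibAss.ι_zero t' N' hz
    rw [CI2.FibAss.pS_iff, algebraMap_smul] at hdmem
    have hmem : ∀ w ∈ t' • (⊤ : Submodule A' N'), ι' w k ∈ t' := by
      intro w hw
      refine Submodule.smul_induction_on hw (fun r hr z _ => ?_) fun u v hu hv => ?_
      · rw [map_smul, Finsupp.smul_apply, smul_eq_mul]
        exact Ideal.mul_mem_right _ _ hr
      · rw [map_add, Finsupp.add_apply]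
        exact add_mem hu hv
    have h1 := hmem _ hdmem
    rw [map_smul, Finsupp.smul_apply, smul_eq_mul] at h1
    have h2 := (‹t'.IsPrime›.mem_or_mem h1).resolve_left hd
    rw [map_sub, Finsupp.sub_apply, map_smul, Finsupp.smul_apply, smul_eq_mul,
      ← Ideal.algebraMap_residueField_eq_zero, map_sub, sub_eq_zero, map_mul] at h2
    rw [Finsupp.mapRange_apply, h2]
    have h3 : ι' (π' • n) = T (ι' n) := by
      show _ = ι' (π' • pr (ι' n))
      rw [hpr]
    rw [h3]
    conv_lhs => rw [← Finsupp.sum_single (ι' n)]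
    rw [map_finsuppSum, Finsupp.sum_apply, map_finsuppSum,
      Finsupp.sum_mapRange_index (fun j => mul_zero _)]
    refine Finsupp.sum_congr fun j _ => ?_
    rw [← mul_one (ι' n j), ← Finsupp.smul_single', map_smul, Finsupp.smul_apply, smul_eq_mul, map_mul, mul_one,
      mul_comm]
  -- so `n` vanishes in the fibre
  apply hn0
  apply CI2.FibAss.ι_pS
  rw [CI2.FibAss.pS_iff, ← hpr n, Finsupp.linearCombination_apply]
  refine Submodule.sum_mem _ fun j _ => Submodule.smul_mem_smul ?_ trivial
  rw [← Ideal.algebraMap_residueField_eq_zero]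
  simpa [a] using DFunLike.congr_fun ha j

end Groth.Agent.ProjPure5
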